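import Cfsg.Agent.H767.PU.Form

/-!
# S5258: coordinate facts on `UG K` and the subgroup `hull`, used in E3b
-/

set_option autoImplicit false

namespace Cfsg.Agent.H647.PU

open Cfsg Cfsg.FusionSystem Cfsg.Agent.H756.PU Cfsg.Agent.H767.PU

universe u

section coord
variable {K : Type u} [Field K] [StarRing K]

/-- `Z` is central -/
theorem ZS_comm (g : UG K) {z : UG K} (hz : z ∈ ZS K) : g * z = z * g := by
  rw [mem_ZS] at hz
  obtain ⟨h1, h2, h3, h4, h5⟩ := hz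
  ext
  · simp [h1]
  · simp [h1, h2, h3]
  · simp [h3]
  · simp [UG.mul_a, UG.d, h1, h2, h3, h4, h5, add_comm]
  · simp [UG.mul_b, h1, h2, h3, h4, h5]
  · simp [h3, h5]

theorem com_ZS {N : Subgroup (UG K)} (g : UG K) {z : UG K} (hz : z ∈ ZS K) : g * z * g⁻¹ * z⁻¹ ∈ N := by
  rw [ZS_comm g hz]
  simp

/-- `[S, Z₂] ≤ Z` -/
theorem com_Z2 (g : UG K) {z : UG K} (hz : z ∈ Z2 K) : g * z * g⁻¹ * z⁻¹ ∈ ZS K := by
  rw [mem_Z2] at hz
  obtain ⟨h1, h2, h3, h5⟩ := hz
  rw [mem_ZS]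
  refine ⟨comm_r _ _, ?_, comm_u2 _ _, ?_, ?_⟩
  · rw [comm_u1, h1, h3]; ring
  · rw [comm_b, h1, h2, h3, h5]; simp
  · rw [comm_c, h3]; simp

/-- `[S, Y₁] ≤ Z₂` -/
theorem com_Y1 (g : UG K) {y : UG K} (hy : y ∈ Y1 K) : g * y * g⁻¹ * y⁻¹ ∈ Z2 K := by
  rw [mem_Y1] at hy
  obtain ⟨h1, h3, h5⟩ := hy
  rw [mem_Z2]
  refine ⟨comm_r _ _, ?_, comm_u2 _ _, ?_⟩
  · rw [comm_u1, h1, h3]; ring
  · rw [comm_c, h3]; simp

theorem com_Y1_b (g : UG K) {y : UG K} (hy : y ∈ Y1 K) : (g * y * g⁻¹ * y⁻¹).b = y.u1 * star g.u2 := by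
  rw [mem_Y1] at hy
  obtain ⟨h1, h3, h5⟩ := hy
  rw [comm_b, h1, h3, h5]; simp

theorem com_Y1_ZS {g : UG K} {y : UG K} (hy : y ∈ Y1 K) :
    g * y * g⁻¹ * y⁻¹ ∈ ZS K ↔ y.u1 * star g.u2 = 0 := by
  rw [← com_Y1_b g hy]
  constructor
  · intro h; exact h.2.2.2.1
  · intro h
    have := com_Y1 g hy
    exact ⟨this.1, this.2.1, this.2.2.1, h, this.2.2.2⟩

/-- `[a,b] ∈ N` iff `[b,a] ∈ N` -/
theorem com_symm {G : Type*} [Group G] {N : Subgroup G} {x y : G} (h : x * y * x⁻¹ * y⁻¹ ∈ N) :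
    y * x * y⁻¹ * x⁻¹ ∈ N := by
  have := N.inv_mem h
  have e : (x * y * x⁻¹ * y⁻¹)⁻¹ = y * x * y⁻¹ * x⁻¹ := by group
  rwa [e] at this

/-- the coordinate `u₂` as a homomorphism -/
def hu2 : UG K →* Multiplicative K where
  toFun g := Multiplicative.ofAdd g.u2
  map_one' := rfl
  map_mul' _ _ := rfl

theorem hu2_ker : (hu2 (K := K)).ker = QV K := by
  ext g
  rw [MonoidHom.mem_ker, mem_QV]
  exact Multiplicative.ofAdd.apply_eq_iff_eq (x := g.u2) (y := (0 : K))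

/-- the coordinate `u₁` as a homomorphism on `Y₁` -/
def hu1 : Y1 K →* Multiplicative K where
  toFun g := Multiplicative.ofAdd (g : UG K).u1
  map_one' := rfl
  map_mul' x y := by
    rw [← ofAdd_add]
    congr 1
    have h := mem_Y1.mp x.2
    simp [h.1]

theorem hu1_ker : (hu1 (K := K)).ker = (Z2 K).subgroupOf (Y1 K) := by
  ext g
  rw [MonoidHom.mem_ker, Subgroup.mem_subgroupOf, mem_Z2]
  have h := mem_Y1.mp g.2
  have e : hu1 g = 1 ↔ (g : UG K).u1 = 0 :=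
    Multiplicative.ofAdd.apply_eq_iff_eq (x := (g : UG K).u1) (y := (0 : K))
  rw [e]
  exact ⟨fun hh => ⟨h.1, hh, h.2.1, h.2.2⟩, fun hh => hh.2.1⟩

end coord

section field
variable {K : Type u} [Field K] [StarRing K] {p n : ℕ}

/-- `star` is not the identity -/
theorem exists_star_ne (h : HypK K p n) : ∃ s : K, star s ≠ s := by
  classical
  have := h.fin
  have : Fintype K := Fintype.ofFinite K
  by_contra hc
  push Not at hc
  have hq : 2 ≤ p ^ n := by
    calc 2 ≤ p := h.pp.two_le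
      _ = p ^ 1 := (pow_one p).symm
      _ ≤ p ^ n := Nat.pow_le_pow_right h.pp.pos h.hn
  have hr : ∀ x : K, x ^ (p ^ n) = x := fun x => by rw [← h.star_eq, hc]
  set P : Polynomial K := Polynomial.X ^ (p ^ n) - Polynomial.X with hP
  have hP0 : P ≠ 0 := FiniteField.X_pow_card_sub_X_ne_zero K (by omega)
  have hdeg : P.natDegree = p ^ n := FiniteField.X_pow_card_sub_X_natDegree_eq K (by omega)
  have hroots : (Finset.univ : Finset K).val ⊆ P.roots := by
    intro x _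
    rw [Polynomial.mem_roots hP0, Polynomial.IsRoot.def, hP]
    simp [hr x]
  have h1 : (Finset.univ : Finset K).card ≤ P.natDegree :=
    Polynomial.card_le_degree_of_subset_roots hroots
  rw [hdeg, Finset.card_univ, ← Nat.card_eq_fintype_card, h.card] at h1
  nlinarith

/-- there is an element of trace one -/
theorem exists_tr_one (h : HypK K p n) : ∃ t : K, t + star t = 1 := by
  obtain ⟨s, hs⟩ := exists_star_ne h
  have h0 : s - star s ≠ 0 := sub_ne_zero.mpr (Ne.symm hs)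
  refine ⟨s / (s - star s), ?_⟩
  have e2 : star (s - star s) = - (s - star s) := by rw [star_sub, star_star]; ring
  rw [star_div₀, e2]
  field_simp
  ring

/-- every norm is a trace: `Y₁` projects onto `K` -/
theorem exists_Y1 (h : HypK K p n) (t : K) : ∃ y ∈ Y1 K, y.u1 = t := by
  obtain ⟨l, hl⟩ := exists_tr_one h
  refine ⟨{ r := 0, u1 := t, u2 := 0, a := - (l * (t * star t)), b := 0, c := 0, ha := ?_, hc := ?_ }, ?_, rfl⟩
  · rw [star_neg, star_mul', star_mul', star_star]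
    linear_combination (- (t * star t)) * hl
  · simp
  · rw [mem_Y1]; exact ⟨rfl, rfl, rfl⟩

theorem index_Z2_Y1 (h : HypK K p n) : (Z2 K).relIndex (Y1 K) = Nat.card K := by
  rw [Subgroup.relIndex, ← hu1_ker, Subgroup.index_ker]
  have : (hu1 (K := K)).range = ⊤ := by
    rw [MonoidHom.range_eq_top]
    intro t
    obtain ⟨y, hy, hyt⟩ := exists_Y1 h (Multiplicative.toAdd t)
    refine ⟨⟨y, hy⟩, ?_⟩
    change Multiplicative.ofAdd y.u1 = t
    rw [hyt]; rfl
  rw [this, Nat.card_congr Subgroup.topEquiv.toEquiv]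
  exact Nat.card_congr Multiplicative.toAdd

/-- `Y₁/Z₂` has exponent `p` -/
theorem pow_Y1 (h : HypK K p n) {y : UG K} (hy : y ∈ Y1 K) : y ^ p ∈ Z2 K := by
  have := h.char
  have h1 : (⟨y, hy⟩ : Y1 K) ^ p ∈ (hu1 (K := K)).ker := by
    rw [MonoidHom.mem_ker, map_pow]
    change Multiplicative.ofAdd y.u1 ^ p = 1
    rw [← ofAdd_nsmul, nsmul_eq_mul, CharP.cast_eq_zero, zero_mul]
    rfl
  rw [hu1_ker, Subgroup.mem_subgroupOf] at h1
  exact h1

/-- `Z₂` has exponent `p` -/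
theorem pow_Z2 (h : HypK K p n) {z : UG K} (hz : z ∈ Z2 K) : z ^ p = 1 := by
  have := h.char
  have key : ∀ k : ℕ, (z ^ k) ∈ Z2 K ∧ (z ^ k).a = k * z.a ∧ (z ^ k).b = k * z.b := by
    intro k
    induction k with
    | zero => exact ⟨by rw [pow_zero]; exact (Z2 K).one_mem, by simp, by simp⟩
    | succ k ih =>
      obtain ⟨h0, h1, h2⟩ := ih
      obtain ⟨k1, k2, k3, k4⟩ := mem_Z2.mp h0
      obtain ⟨l1, l2, l3, l4⟩ := mem_Z2.mp hz
      refine ⟨(Z2 K).pow_mem hz _, ?_, ?_⟩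
      · rw [pow_succ, UG.mul_a]
        simp only [UG.d, h1, h2, k1, k2, k3, k4, l1, l2, l3, l4]
        push_cast
        simp
        ring
      · rw [pow_succ, UG.mul_b]
        simp only [h2, k1, k2, l3, l4]
        push_cast
        simp
        ring
  obtain ⟨h0, h1, h2⟩ := key p
  obtain ⟨k1, k2, k3, k4⟩ := mem_Z2.mp h0
  rw [CharP.cast_eq_zero, zero_mul] at h1 h2
  exact UG.ext k1 k2 k3 h1 h2 k4

end field

/-! ### hull -/

section hull
variable {Ω : Type*} [Group Ω] {E : Subgroup Ω} {Γ : Subgroup (MulAut E)}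

theorem hull_inv (X : Subgroup Ω) : Inv Γ (hull Γ X) := by
  constructor
  · rw [hull, Subgroup.closure_le]
    rintro y ⟨γ, -, e, -, rfl⟩
    exact (γ e).2
  · intro γ hγ e he
    have key : ∀ x ∈ hull Γ X, ∀ hx : x ∈ E, ((γ ⟨x, hx⟩ : E) : Ω) ∈ hull Γ X := by
      intro x hx
      rw [hull] at hx
      induction hx using Subgroup.closure_induction with
      | mem x hx =>
        obtain ⟨δ, hδ, f, hf, rfl⟩ := hx
        intro hxE
        refine Subgroup.subset_closure ⟨γ * δ, Γ.mul_mem hγ hδ, f, hf, ?_⟩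
        rfl
      | one =>
        intro h1
        have : (⟨1, h1⟩ : E) = 1 := rfl
        rw [this, map_one]
        exact (hull Γ X).one_mem
      | mul x y hx hy ihx ihy =>
        intro hxy
        have hxE : x ∈ E := (show hull Γ X ≤ E by
          rw [hull, Subgroup.closure_le]
          rintro y ⟨γ, -, e, -, rfl⟩
          exact (γ e).2) hx
        have hyE : y ∈ E := (show hull Γ X ≤ E by
          rw [hull, Subgroup.closure_le]
          rintro y ⟨γ, -, e, -, rfl⟩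
          exact (γ e).2) hy
        have : (⟨x * y, hxy⟩ : E) = ⟨x, hxE⟩ * ⟨y, hyE⟩ := rfl
        rw [this, map_mul, Subgroup.coe_mul]
        exact (hull Γ X).mul_mem (ihx hxE) (ihy hyE)
      | inv x hx ihx =>
        intro hxi
        have hxE : x ∈ E := by simpa using hxi
        have : (⟨x⁻¹, hxi⟩ : E) = (⟨x, hxE⟩ : E)⁻¹ := rfl
        rw [this, map_inv, Subgroup.coe_inv]
        exact (hull Γ X).inv_mem (ihx hxE)
    exact key e he e.2

theorem le_hull {X : Subgroup Ω} (hX : X ≤ E) : X ≤ hull Γ X := by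
  intro x hx
  exact Subgroup.subset_closure ⟨1, Γ.one_mem, ⟨x, hX hx⟩, hx, rfl⟩

/-- commutator conditions pass to the hull: if `[E, X] ≤ N`, `N` invariant and normal in `E`, then `[E, hull X] ≤ N` -/
theorem com_hull {X N : Subgroup Ω} (hN : Inv Γ N) (hNn : ∀ e ∈ E, ∀ x ∈ N, e * x * e⁻¹ ∈ N)
    (h : ∀ e ∈ E, ∀ x ∈ X, x ∈ E → e * x * e⁻¹ * x⁻¹ ∈ N) : Com E (hull Γ X) N := by
  intro e he m hm
  rw [hull] at hm
  revert e
  induction hm using Subgroup.closure_induction with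
  | mem x hx =>
    obtain ⟨δ, hδ, f, hf, rfl⟩ := hx
    intro e he
    have h1 := h (δ⁻¹ ⟨e, he⟩ : E) (SetLike.coe_mem _) (f : Ω) hf f.2
    have h2 := hN.2 δ hδ ((δ⁻¹ ⟨e, he⟩ : E) * f * (δ⁻¹ ⟨e, he⟩ : E)⁻¹ * f⁻¹) h1
    have h3 : δ ((δ⁻¹ ⟨e, he⟩ : E) * f * (δ⁻¹ ⟨e, he⟩ : E)⁻¹ * f⁻¹) =
        (⟨e, he⟩ : E) * δ f * (⟨e, he⟩ : E)⁻¹ * (δ f)⁻¹ := by
      simp only [map_mul, map_inv, MulAut.apply_inv_self]
    rw [h3] at h2
    exact h2
  | one => intro e he; simp [N.one_mem]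
  | mul x y hx hy ihx ihy =>
    intro e he
    have e1 : e * (x * y) * e⁻¹ * (x * y)⁻¹ = (e * x * e⁻¹ * x⁻¹) * (x * (e * y * e⁻¹ * y⁻¹) * x⁻¹) := by group
    rw [e1]
    have hxE : x ∈ E := (hull_inv (Γ := Γ) X).1 hx
    exact N.mul_mem (ihx e he) (hNn x hxE _ (ihy e he))
  | inv x hx ihx =>
    intro e he
    have e1 : e * x⁻¹ * e⁻¹ * x⁻¹⁻¹ = x⁻¹ * (e * x * e⁻¹ * x⁻¹)⁻¹ * x⁻¹⁻¹ := by group
    rw [e1]
    have hxE : x ∈ E := (hull_inv (Γ := Γ) X).1 hx
    exact hNn _ (E.inv_mem hxE) _ (N.inv_mem (ihx e he))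

/-- the `p`-th powers of the elements of the hull -/
theorem pow_hull {X N : Subgroup Ω} (p : ℕ) (hN : Inv Γ N) (hNn : ∀ e ∈ E, ∀ x ∈ N, e * x * e⁻¹ ∈ N)
    (hc : Com E (hull Γ X) N) (h : ∀ x ∈ X, x ∈ E → x ^ p ∈ N) : ∀ m ∈ hull Γ X, m ^ p ∈ N := by
  classical
  have hle := (hull_inv (Γ := Γ) X).1
  have hnorm : (N.subgroupOf E).Normal := by
    constructor
    intro x hx g
    rw [Subgroup.mem_subgroupOf] at hx ⊢
    exact hNn g g.2 x hx
  have key : ∀ m (hm : m ∈ hull Γ X), ((QuotientGroup.mk (⟨m, hle hm⟩ : E) : E ⧸ N.subgroupOf E)) ^ p = 1 := by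
    intro m hm
    have hm' := hm
    rw [hull] at hm'
    induction hm' using Subgroup.closure_induction with
    | mem x hx =>
      obtain ⟨δ, hδ, f, hf, rfl⟩ := hx
      rw [← QuotientGroup.mk_pow, QuotientGroup.eq_one_iff, Subgroup.mem_subgroupOf]
      have := hN.2 δ hδ (f ^ p) (by simpa using h f hf f.2)
      rw [map_pow] at this
      exact this
    | one =>
      rw [← QuotientGroup.mk_pow, QuotientGroup.eq_one_iff, Subgroup.mem_subgroupOf]
      simp [N.one_mem]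
    | mul x y hx hy ihx ihy =>
      have e1 : (QuotientGroup.mk (⟨x * y, hle hm⟩ : E) : E ⧸ N.subgroupOf E) =
          QuotientGroup.mk (⟨x, hle hx⟩ : E) * QuotientGroup.mk (⟨y, hle hy⟩ : E) := rfl
      have hcomm : Commute (QuotientGroup.mk (⟨x, hle hx⟩ : E) : E ⧸ N.subgroupOf E)
          (QuotientGroup.mk (⟨y, hle hy⟩ : E)) := by
        have h2 := hc x (hle hx) y hy
        have : (QuotientGroup.mk ((⟨x, hle hx⟩ : E) * ⟨y, hle hy⟩ * (⟨x, hle hx⟩ : E)⁻¹ * (⟨y, hle hy⟩ : E)⁻¹) :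
            E ⧸ N.subgroupOf E) = 1 := by
          rw [QuotientGroup.eq_one_iff, Subgroup.mem_subgroupOf]
          exact h2
        rw [QuotientGroup.mk_mul, QuotientGroup.mk_mul, QuotientGroup.mk_mul, QuotientGroup.mk_inv,
          QuotientGroup.mk_inv, mul_inv_eq_one, mul_inv_eq_iff_eq_mul] at this
        exact this
      rw [e1, hcomm.mul_pow, ihx hx, ihy hy, one_mul]
    | inv x hx ihx =>
      have e1 : (QuotientGroup.mk (⟨x⁻¹, hle hm⟩ : E) : E ⧸ N.subgroupOf E) =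
          (QuotientGroup.mk (⟨x, hle hx⟩ : E))⁻¹ := rfl
      rw [e1, inv_pow, ihx hx, inv_one]
  intro m hm
  have := key m hm
  rw [← QuotientGroup.mk_pow, QuotientGroup.eq_one_iff, Subgroup.mem_subgroupOf] at this
  exact this

end hull

end Cfsg.Agent.H647.PU
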