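import Cfsg.Agent.H647.PU.Co

/-!
# S5258: (E3b)
-/

set_option autoImplicit false

namespace Cfsg.Agent.H647.PU

open Cfsg Cfsg.FusionSystem Cfsg.Agent.H756.PU Cfsg.Agent.H767.PU

universe u

theorem stE3b (hChain : StChain.{u}) (hFF : StFF.{u}) : StE3b.{u} := by
  intro K _ _ p n hK E Γ hE hZ2 hZ hQ1 hQV
  by_contra hY1
  have hfin : Finite K := hK.fin
  have hZE : ZS K ≤ E := ZS_le_Z2.trans hZ2
  have hZn : ∀ e ∈ E, ∀ x ∈ ZS K, e * x * e⁻¹ ∈ ZS K := by
    intro e _ x hx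
    rw [ZS_comm e hx, mul_inv_cancel_right]
    exact hx
  set M : Subgroup (UG K) := hull Γ (Z2 K) with hM
  have hMinv : Inv Γ M := hull_inv _
  have hME : M ≤ E := hMinv.1
  have hZ2M : Z2 K ≤ M := le_hull hZ2
  have hZM : ZS K ≤ M := ZS_le_Z2.trans hZ2M
  have hEM : Com E M (ZS K) := com_hull hZ hZn (fun e _ x hx _ => com_Z2 e hx)
  have hMp : ∀ m ∈ M, m ^ p ∈ ZS K :=
    pow_hull p hZ hZn hEM (fun x hx _ => by rw [pow_Z2 hK hx]; exact (ZS K).one_mem)
  have hSZ2 : ∀ g : UG K, ∀ y ∈ Y1 K, g * y * g⁻¹ * y⁻¹ ∈ Z2 K := fun g y hy => com_Y1 g hy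
  have hY1E : Com (Y1 K) E M := fun y hy e _ => hZ2M (com_symm (hSZ2 e y hy))
  have hY1Z : ∀ x ∈ Y1 K, ∀ m ∈ ZS K, x * m = m * x := fun x _ m hm => ZS_comm x hm
  -- `M` is not contained in `QV`
  have hMQ : ¬ M ≤ QV K := by
    intro hle
    apply hY1
    refine hChain hE (ZS K) (ZS K) M hZ hZ hMinv le_rfl hZM (Y1 K) le_top hY1E ?_ ?_ hY1Z
    · intro y hy m hm
      apply com_symm
      rw [com_Y1_ZS hy, mem_QV.mp (hle hm)]
      simp
    · intro y _ m hm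
      exact com_ZS y hm
  obtain ⟨m, hmM, hmQ⟩ := Set.not_subset.mp hMQ
  have hm2 : m.u2 ≠ 0 := fun h => hmQ h
  -- `E ∩ Y₁ = Z₂`
  have hEY : E ⊓ Y1 K = Z2 K := by
    apply le_antisymm
    · rintro y ⟨hyE, hyY⟩
      have h1 : m * y * m⁻¹ * y⁻¹ ∈ ZS K := com_symm (hEM y hyE m hmM)
      rw [com_Y1_ZS hyY] at h1
      have h2 : y.u1 = 0 := by
        rcases mul_eq_zero.mp h1 with h | h
        · exact h
        · exact absurd (star_eq_zero.mp h) hm2
      have h3 := mem_Y1.mp hyY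
      exact ⟨h3.1, h2, h3.2.1, h3.2.2⟩
    · exact le_inf hZ2 Z2_le_Y1
  have hidx : E.relIndex (Y1 K) = Nat.card K := by
    rw [← Subgroup.inf_relIndex_right, hEY, index_Z2_Y1 hK]
  -- `|M : C_M(Y₁ mod Z)| ≤ |M : M ∩ QV| ≤ |K|`
  have hQVM : (QV K).relIndex M = Nat.card (M.map hu2) := by
    rw [← hu2_ker, Subgroup.relIndex_ker]
  have hcK : Nat.card (M.map (hu2 (K := K))) ≤ Nat.card K := by
    have h1 : Nat.card (M.map (hu2 (K := K))) ≤ Nat.card (Multiplicative K) :=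
      Subgroup.card_le_card_group _
    exact h1.trans (le_of_eq (Nat.card_congr Multiplicative.toAdd))
  have hcm : (cmod (Y1 K) M (ZS K)).relIndex M ≤ (QV K).relIndex M := by
    have h1 : (QV K ⊓ M) ≤ cmod (Y1 K) M (ZS K) := by
      rintro g ⟨hg1, hg2⟩
      refine Subgroup.subset_closure ⟨hg2, fun y hy => com_symm ?_⟩
      rw [com_Y1_ZS hy, mem_QV.mp hg1]
      simp
    have h2 := Subgroup.relIndex_dvd_of_le_left M h1
    rw [Subgroup.inf_relIndex_right] at h2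
    apply Nat.le_of_dvd _ h2
    rw [hQVM]
    exact Nat.card_pos
  have hff := hFF hE (ZS K) M (Z2 K) (Y1 K) hZ hMinv hZM hZ2M hEM hMp ?_ ?_ ?_ hY1
    (fun x _ y hy => hZ2 (com_Y1 x hy)) (fun x hx => hZ2 (pow_Y1 hK hx)) hY1E hY1Z ?_
  rotate_left
  · rw [sup_eq_left.mpr hZM]
  · intro x _ z hz
    exact com_Z2 x hz
  · -- `Y₁` normalizes `E`
    refine le_inf le_top ?_
    intro y hy
    rw [Subgroup.mem_normalizer_iff]
    have key : ∀ z ∈ Y1 K, ∀ e ∈ E, z * e * z⁻¹ ∈ E := by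
      intro z hz e he
      have h1 := hZ2 (com_symm (hSZ2 e z hz))
      have h2 := E.mul_mem h1 he
      simpa using h2
    intro e
    constructor
    · intro he
      exact key y hy e he
    · intro he
      have h1 := key y⁻¹ ((Y1 K).inv_mem hy) _ he
      have e1 : y⁻¹ * (y * e * y⁻¹) * y⁻¹⁻¹ = e := by group
      rwa [e1] at h1
  · rw [hidx]
    exact hcm.trans (hQVM.le.trans hcK)
  obtain ⟨-, h2, -⟩ := hff
  -- `M` covers `S/QV`
  have hcard : Nat.card (M.map (hu2 (K := K))) = Nat.card (Multiplicative K) := by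
    have e1 : Nat.card (Multiplicative K) = Nat.card K := Nat.card_congr Multiplicative.toAdd
    rw [e1]
    apply le_antisymm hcK
    rw [← hidx, ← h2, ← hQVM]
    exact hcm
  have htop : M.map (hu2 (K := K)) = ⊤ := Subgroup.eq_top_of_card_eq _ hcard
  have hcov : ∀ s : K, ∃ g ∈ M, g.u2 = s := by
    intro s
    have h3 : Multiplicative.ofAdd s ∈ M.map (hu2 (K := K)) := by rw [htop]; trivial
    obtain ⟨g, hg, hgs⟩ := h3
    exact ⟨g, hg, Multiplicative.ofAdd.injective hgs⟩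
  obtain ⟨s, hs⟩ := exists_star_ne hK
  obtain ⟨g, hg, hg2⟩ := hcov 1
  obtain ⟨k, hk, hk2⟩ := hcov s
  have h4 := hEM g (hME hg) k hk
  have h5 := (mem_ZS.mp h4).2.2.2.2
  rw [comm_c, hg2, hk2] at h5
  apply hs
  simp only [star_one, mul_one, one_mul] at h5
  exact (sub_eq_zero.mp h5).symm

end Cfsg.Agent.H647.PU
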